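import Cfsg.Agent.H51.E6Max.Cert
import Cfsg.Agent.H51.E6Max.L17.Data
/-! Kernel checks of the certificate. -/

set_option autoImplicit false
set_option maxRecDepth 100000
set_option maxHeartbeats 0

namespace H51.E6Max.L17

open H60.TE6 H51.E6Max

theorem xw_lt : ∀ a ∈ xw, a < 16 := by decide +kernel

theorem x_eq : evL (lw xw) idY = X := by decide +kernel

theorem x_pow : powB 17 X Xs = true := by decide +kernel

theorem a_eq : X ^^^ idY = A := by decide +kernel

theorem F_zero : mulP A FB = 0 := by decide +kernel

theorem F_split : mulP FR A ^^^ mulP FB FC = idY := by decide +kernel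

theorem e_u : mulP A EU = EB := by decide +kernel

theorem e_qa : mulP EQ A = 0 := by decide +kernel

theorem E_zero : mulP EQ EB = 0 := by decide +kernel

theorem E_split : mulP ER EQ ^^^ mulP EB EC = idY := by decide +kernel

theorem A_u : mulP EB AU0 = AU := by decide +kernel

theorem A_k : xorAll (fun i => mulP (mulP (Xs.getD i 0) AU) (AK.getD i 0)) 17 = EB := by decide +kernel

theorem A_len : AM.length = 8 := by decide +kernel

theorem A_m0 : twMat 17 4 AU 0 Xs = AM.getD 0 0 := by decide +kernel

theorem A_m1 : twMat 17 4 AU 1 Xs = AM.getD 1 0 := by decide +kernel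

theorem A_m2 : twMat 17 4 AU 2 Xs = AM.getD 2 0 := by decide +kernel

theorem A_m3 : twMat 17 4 AU 3 Xs = AM.getD 3 0 := by decide +kernel

theorem A_m4 : twMat 17 4 AU 4 Xs = AM.getD 4 0 := by decide +kernel

theorem A_m5 : twMat 17 4 AU 5 Xs = AM.getD 5 0 := by decide +kernel

theorem A_m6 : twMat 17 4 AU 6 Xs = AM.getD 6 0 := by decide +kernel

theorem A_m7 : twMat 17 4 AU 7 Xs = AM.getD 7 0 := by decide +kernel

theorem A_zero : mulP AQ AB = 0 := by decide +kernel

theorem A_split : mulP AR AQ ^^^ mulP AB AC = idY := by decide +kernel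

theorem A_le : twLeB AQ EB AU AM = true := by decide +kernel

theorem A_ge : xorAll (fun k => mulP (mulP (AM.getD k 0) EB) (AT.getD k 0)) AM.length = AB := by decide +kernel

theorem W_zero : mulP WQ WB = 0 := by decide +kernel

theorem W_split : mulP WR WQ ^^^ mulP WB WC = idY := by decide +kernel

theorem w_f : mulP WB WF = FB := by decide +kernel

theorem w_a : mulP WB WA = AB := by decide +kernel

theorem w_sum : mulP FB WT0 ^^^ mulP AB WT1 = WB := by decide +kernel

theorem hw_lt : ∀ a ∈ hw, a < 16 := by decide +kernel

theorem h_eq : evL (lw hw) idY = HM := by decide +kernel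

theorem h_sq : mulP HM HM = idY := by decide +kernel

theorem h_stab : mulP WQ (mulP HM WB) = 0 := by decide +kernel

theorem h_out : ((List.range 17).all fun i => H48.E6Max.nzB (mulP (mulP HM X) HM ^^^ Xs.getD i 0)) = true := by decide +kernel

theorem gw_lt : ∀ a ∈ gw, a < 16 := by decide +kernel

theorem g_eq : evL (lw gw) idY = GM := by decide +kernel

theorem g_move : H48.E6Max.nzB (mulP WQ (mulP GM WB)) = true := by decide +kernel

end H51.E6Max.L17
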